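import Cfsg.Agent.AbPSL44.Maximal
import Cfsg.Agent.AbPSL44.Facts
import Cfsg.Agent.StronglyEmbedded.Criteria
import Cfsg.Agent.S1141
import Cfsg.Agent.Eq.Def_Exceptional
import Cfsg.Prelude.Def_Exceptional
import Cfsg.Prelude.Def_EvenType
import Cfsg.Prelude.Def_TwoFusion

/-!
`C(t) = ⟨t⟩ × E` with `PSL(2, q) ⊴ E` is maximal in a simple group with abelian Sylow 2-subgroups,
given Bender's list of the simple groups with a strongly embedded subgroup.
-/

set_option autoImplicit false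

universe u

namespace CfsgLib.AbPSL44

/-- Bender's list. -/
def BenderList : Prop :=
  ∀ {G : Type u} [Group G] [Finite G] [IsSimpleGroup G], (∃ a b : G, a * b ≠ b * a) →
    ∀ H : Subgroup G, Cfsg.IsStronglyEmbedded H →
      (∃ (F : Type) (_ : Field F) (_ : Fintype F), CharP F 2 ∧ 4 ≤ Fintype.card F ∧
          Nonempty (G ≃* Matrix.ProjectiveSpecialLinearGroup (Fin 2) F)) ∨
        Cfsg.IsSuzuki G ∨
        (∃ (F : Type) (_ : Field F) (_ : Fintype F) (q : ℕ), Fintype.card F = q ^ 2 ∧ Even q ∧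
          4 ≤ q ∧ Nonempty (G ≃* Cfsg.PSU 3 F q))

theorem isCoatom_centralizer (hB : BenderList.{u}) {G : Type u} [Group G] [Finite G]
    [IsSimpleGroup G] (hna : ¬ IsMulCommutative G) (S₁ : Sylow 2 G)
    (hS : IsMulCommutative (S₁ : Subgroup G)) (t : G) (ht : orderOf t = 2) (E E₀ : Subgroup G)
    (hprod : Cfsg.IsInternalDirectProduct (Subgroup.zpowers t) E
      (Subgroup.centralizer ({t} : Set G)))
    (hE₀E : E₀ ≤ E) (hE₀n : (E₀.subgroupOf E).Normal) {F : Type*} [Field F] [Fintype F]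
    (hodd : Odd (Fintype.card F))
    (φ : E₀ ≃* Matrix.ProjectiveSpecialLinearGroup (Fin 2) F)
    (hCE : E ⊓ Subgroup.centralizer (E₀ : Set G) = ⊥) :
    IsCoatom (Subgroup.centralizer ({t} : Set G)) := by
  classical
  have : Fact (Nat.Prime 2) := ⟨Nat.prime_two⟩
  have h2 : (2 : F) ≠ 0 := SL2.two_ne_zero_iff_odd.2 hodd
  obtain ⟨hzC, hEC, hcom, hinf, hsup⟩ := hprod
  have htt : t * t = 1 := by rw [← pow_two, ← ht, pow_orderOf_eq_one]
  have ht1 : t ≠ 1 := fun e => by rw [e, orderOf_one] at ht; omega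
  have hia : t⁻¹ = t := inv_eq_of_mul_eq_one_right htt
  have hecomm : ∀ e ∈ E, Commute e t := fun e he =>
    (hcom t (Subgroup.mem_zpowers t) e he).symm
  have hab2 : ∀ Q : Subgroup G, IsPGroup 2 Q → ∀ u ∈ Q, ∀ v ∈ Q, Commute u v := by
    intro Q hQ u hu v hv
    obtain ⟨P, hP⟩ := hQ.exists_le_sylow
    obtain ⟨c, hc⟩ := MulAction.exists_smul_eq G P S₁
    have hu' : c * u * c⁻¹ ∈ S₁ := hc ▸ ⟨u, hP hu, rfl⟩
    have hv' : c * v * c⁻¹ ∈ S₁ := hc ▸ ⟨v, hP hv, rfl⟩
    have h := commute_conj (show Commute (c * u * c⁻¹) (c * v * c⁻¹) from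
      congrArg Subtype.val (hS.is_comm.comm (⟨_, hu'⟩ : ↥(S₁ : Subgroup G)) ⟨_, hv'⟩)) c⁻¹
    rwa [show c⁻¹ * (c * u * c⁻¹) * c⁻¹⁻¹ = u by group,
      show c⁻¹ * (c * v * c⁻¹) * c⁻¹⁻¹ = v by group] at h
  have h8 : ¬ 8 ∣ Fintype.card F - 1 := by
    refine not_eight_dvd fun Q hQ u hu v hv => ?_
    have hQ' := (hQ.map φ.symm.toMonoidHom).map E₀.subtype
    have h := hab2 _ hQ' _ ⟨_, ⟨u, hu, rfl⟩, rfl⟩ _ ⟨_, ⟨v, hv, rfl⟩, rfl⟩
    have h' : Commute (φ.symm u) (φ.symm v) := Subtype.ext h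
    simpa using h'.map φ
  obtain ⟨A, B, hA2, hB2, hA1, hB1, hAB, hABc, haut⟩ := exists_four (F := F) h2
  set a : G := (φ.symm A).1 with ha
  set b : G := (φ.symm B).1 with hb
  have hφ : ∀ {X Y : E₀}, Commute X.1 Y.1 → Commute (φ X) (φ Y) := fun {X Y} h =>
    (show Commute X Y from Subtype.ext h).map φ
  have hasq : a * a = 1 := by rw [ha, ← Subgroup.coe_mul, ← map_mul, hA2, map_one]; rfl
  have hbsq : b * b = 1 := by rw [hb, ← Subgroup.coe_mul, ← map_mul, hB2, map_one]; rfl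
  have ha1 : a ≠ 1 := fun e => hA1 (φ.symm.injective (Subtype.ext (e.trans (by simp))))
  have hb1 : b ≠ 1 := fun e => hB1 (φ.symm.injective (Subtype.ext (e.trans (by simp))))
  have hab' : a ≠ b := fun e => hAB (φ.symm.injective (Subtype.ext e))
  have ha0 : a ∈ E₀ := (φ.symm A).2
  have hb0 : b ∈ E₀ := (φ.symm B).2
  have habc : Commute a b := congrArg Subtype.val (hABc.map φ.symm).eq
  have hta : Commute t a := (hecomm a (hE₀E ha0)).symm
  have htb : Commute t b := (hecomm b (hE₀E hb0)).symm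
  -- a Sylow subgroup through `t, a, b`
  have hp2 : ∀ z : G, z * z = 1 → IsPGroup 2 (Subgroup.zpowers z) := by
    rintro z hz ⟨y, hy⟩
    obtain ⟨i, rfl⟩ := Subgroup.mem_zpowers_iff.1 hy
    refine ⟨1, Subtype.ext ?_⟩
    change (z ^ i) ^ (2 ^ 1) = 1
    rw [pow_one, ← zpow_natCast, ← zpow_mul, mul_comm, zpow_mul, zpow_natCast, pow_two, hz, one_zpow]
  have hnor : ∀ {z y : G}, Commute z y →
      (Subgroup.zpowers y).map (MulAut.conj z : G →* G) = Subgroup.zpowers y := by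
    intro z y h
    rw [MonoidHom.map_zpowers]
    change Subgroup.zpowers (z * y * z⁻¹) = _
    rw [h.eq, mul_inv_cancel_right]
  have hQ₁ : IsPGroup 2 (Subgroup.zpowers b ⊔ Subgroup.zpowers a : Subgroup G) :=
    (hp2 b hbsq).to_sup_of_normal_right' (hp2 a hasq)
      (Subgroup.zpowers_le.2 (Subgroup.mem_normalizer_iff_map_conj_eq.2 (hnor habc.symm)))
  have hQ₀ : IsPGroup 2 (Subgroup.zpowers t ⊔ (Subgroup.zpowers b ⊔ Subgroup.zpowers a) : Subgroup G) :=
    (hp2 t htt).to_sup_of_normal_right' hQ₁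
      (Subgroup.zpowers_le.2 (Subgroup.mem_normalizer_iff_map_conj_eq.2
        (by rw [Subgroup.map_sup, hnor htb, hnor hta])))
  obtain ⟨S, hQS⟩ := hQ₀.exists_le_sylow
  have htS : t ∈ S := hQS (Subgroup.mem_sup_left (Subgroup.mem_zpowers t))
  have haS : a ∈ S := hQS (Subgroup.mem_sup_right (Subgroup.mem_sup_right (Subgroup.mem_zpowers a)))
  have hbS : b ∈ S := hQS (Subgroup.mem_sup_right (Subgroup.mem_sup_left (Subgroup.mem_zpowers b)))
  have hSab : ∀ x ∈ S, ∀ y ∈ S, Commute x y := hab2 _ S.isPGroup'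
  have hcdec : ∀ c : G, Commute c t → ∃ e ∈ E, c = e ∨ c = t * e := by
    intro c hc
    have hcC : c ∈ Subgroup.zpowers t ⊔ E := hsup ▸ Subgroup.mem_centralizer_singleton_iff.2 hc
    have hn : Subgroup.zpowers t ≤ Subgroup.normalizer (E : Set G) := by
      refine Subgroup.zpowers_le.2 (Subgroup.mem_normalizer_iff.2 fun x => ⟨fun hx => ?_, fun hx => ?_⟩)
      · rwa [← (hecomm x hx).eq, mul_inv_cancel_right]
      · have h := hecomm _ hx
        have e : x = t * x * t⁻¹ := by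
          calc x = t⁻¹ * (t * x * t⁻¹) * t := by group
            _ = t * x * t⁻¹ := by rw [mul_assoc, h.eq, inv_mul_cancel_left]
        rw [e]
        exact hx
    rw [← SetLike.mem_coe, Subgroup.coe_mul_of_left_le_normalizer_right _ _ hn] at hcC
    obtain ⟨z, hz, e, he, rfl⟩ := hcC
    obtain ⟨i, rfl⟩ := Subgroup.mem_zpowers_iff.1 hz
    refine ⟨e, he, ?_⟩
    rcases Int.even_or_odd i with ⟨j, rfl⟩ | ⟨j, rfl⟩
    · left
      rw [← two_mul, zpow_mul, zpow_two, htt, one_zpow]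
      exact one_mul e
    · right
      rw [zpow_add, zpow_one, zpow_mul, zpow_two, htt, one_zpow, one_mul]
  have htE : t ∉ E := fun h => ht1 (Subgroup.mem_bot.1 (hinf ▸ ⟨Subgroup.mem_zpowers t, h⟩))
  have he0n : ∀ e ∈ E, ∀ x ∈ E₀, e * x * e⁻¹ ∈ E₀ := fun e he x hx =>
    hE₀n.conj_mem ⟨x, hE₀E hx⟩ hx ⟨e, he⟩
  have hcent : ∀ e ∈ E, (∀ x ∈ E₀, Commute e x) → e = 1 := fun e he h =>
    Subgroup.mem_bot.1 (hCE ▸ (⟨he, Subgroup.mem_centralizer_iff.2 fun x hx => (h x hx).eq.symm⟩ :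
      e ∈ E ⊓ Subgroup.centralizer (E₀ : Set G)))
  have hmemS : ∀ s ∈ S, ∃ r ∈ E₀, r * r = 1 ∧ Commute r a ∧ Commute r b ∧ (s = r ∨ s = t * r) := by
    intro s hs
    obtain ⟨e, he, hse⟩ := hcdec s (hSab s hs t htS)
    have heS : e ∈ S := by
      rcases hse with h | h
      · exact h ▸ hs
      · rw [show e = t * s by rw [h, ← mul_assoc, htt, one_mul]]; exact mul_mem htS hs
    have hen : e ∈ Subgroup.normalizer (E₀ : Set G) := by
      refine Subgroup.mem_normalizer_iff.2 fun x => ⟨fun hx => he0n e he x hx, fun hx => ?_⟩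
      have := he0n e⁻¹ (inv_mem he) _ hx
      rwa [show e⁻¹ * (e * x * e⁻¹) * e⁻¹⁻¹ = x by group] at this
    obtain ⟨k, hk⟩ := S.isPGroup' ⟨e, heS⟩
    set β := MulAut.congr φ (Subgroup.normalizerMonoidHom E₀ ⟨e, hen⟩) with hβ
    have hβk : β ^ (2 ^ k) = 1 := by
      rw [hβ, ← map_pow, ← map_pow, show (⟨e, hen⟩ : Subgroup.normalizer (E₀ : Set G)) ^ (2 ^ k) = 1
        from Subtype.ext (by simpa using congrArg Subtype.val hk), map_one, map_one]
    have hβx : ∀ x : E₀, β (φ x) = φ ⟨e * x * e⁻¹, he0n e he x x.2⟩ := by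
      intro x
      change φ (Subgroup.normalizerMonoidHom E₀ ⟨e, hen⟩ (φ.symm (φ x))) = _
      rw [MulEquiv.symm_apply_apply]
      rfl
    have hfx : ∀ (Z : Matrix.ProjectiveSpecialLinearGroup (Fin 2) F),
        Commute e (φ.symm Z).1 → β Z = Z := by
      intro Z hZ
      have h := hβx (φ.symm Z)
      rw [MulEquiv.apply_symm_apply] at h
      rw [h]
      apply φ.symm.injective
      rw [MulEquiv.symm_apply_apply]
      exact Subtype.ext (by change e * _ * e⁻¹ = _; rw [hZ.eq, mul_inv_cancel_right])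
    obtain ⟨R, hR2, hRA, hRB, hR⟩ := haut h8 β k hβk (hfx A (hSab e heS a haS))
      (hfx B (hSab e heS b hbS))
    set r : G := (φ.symm R).1 with hr
    have hr0 : r ∈ E₀ := (φ.symm R).2
    have hrsq : r * r = 1 := by rw [hr, ← Subgroup.coe_mul, ← map_mul, hR2, map_one]; rfl
    have hre : r = e := by
      refine inv_mul_eq_one.1 (hcent (r⁻¹ * e) (mul_mem (inv_mem (hE₀E hr0)) he) fun x hx => ?_)
      have h := hβx ⟨x, hx⟩
      rw [hR, MulAut.conj_apply] at h
      have h' := congrArg (fun z => (φ.symm z).1) h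
      simp only [map_mul, map_inv, MulEquiv.symm_apply_apply, Subgroup.coe_mul,
        InvMemClass.coe_inv] at h'
      refine mul_inv_eq_iff_eq_mul.1 ?_
      calc r⁻¹ * e * x * (r⁻¹ * e)⁻¹ = r⁻¹ * (e * x * e⁻¹) * r := by group
        _ = x := by rw [← h', hr]; group
    refine ⟨r, hr0, hrsq, congrArg Subtype.val (hRA.map φ.symm).eq,
      congrArg Subtype.val (hRB.map φ.symm).eq, ?_⟩
    rw [hre]
    exact hse
  have h : Conf S t a b E E₀ :=
    { ab := ⟨⟨fun x y => Subtype.ext (hSab x.1 x.2 y.1 y.2)⟩⟩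
      tS := htS, aS := haS, bS := hbS, tsq := htt, cdec := hcdec, ecomm := hecomm, tE := htE
      e0le := hE₀E, e0n := he0n, cent := hcent, a0 := ha0, b0 := hb0, asq := hasq, bsq := hbsq
      a1 := ha1, b1 := hb1, ab' := hab'
      ca := fun x hx y hy z hz hxx hxy hxz => by
        have := BinaryPSL.psl_ca (φ ⟨x, hx⟩) (φ ⟨y, hy⟩) (φ ⟨z, hz⟩)
          (fun e => hxx (by
            rw [← map_mul, MulEquiv.map_eq_one_iff] at e
            exact congrArg Subtype.val e))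
          (hφ hxy) (hφ hxz)
        have := this.map φ.symm
        simp only [MulEquiv.symm_apply_apply] at this
        exact congrArg Subtype.val this.eq
      klein := fun y hy hya hyb => by
        have hA : φ ⟨a, ha0⟩ = A := φ.apply_symm_apply A
        have hB' : φ ⟨b, hb0⟩ = B := φ.apply_symm_apply B
        have c1 : Commute (φ ⟨y, hy⟩) A := hA ▸ hφ (X := ⟨y, hy⟩) (Y := ⟨a, ha0⟩) hya
        have c2 : Commute (φ ⟨y, hy⟩) B := hB' ▸ hφ (X := ⟨y, hy⟩) (Y := ⟨b, hb0⟩) hyb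
        rcases BinaryPSL.psl_klein h2 A B _ hA2 hB2 hA1 hB1 hAB hABc c1 c2 with e | e | e | e <;>
          have e' := congrArg (fun z => (φ.symm z).1) e <;>
          simp at e' <;> simp [ha, hb, e']
      conj := fun u hu v hv hu2 hu1 hv2 hv1 => by
        obtain ⟨g, hg⟩ := BinaryPSL.exists_conj_involution (x := φ ⟨u, hu⟩) (y := φ ⟨v, hv⟩)
          (by rw [← map_mul, show (⟨u, hu⟩ * ⟨u, hu⟩ : E₀) = 1 from Subtype.ext hu2, map_one])
          (fun e => hu1 (congrArg Subtype.val ((MulEquiv.map_eq_one_iff φ).1 e)))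
          (by rw [← map_mul, show (⟨v, hv⟩ * ⟨v, hv⟩ : E₀) = 1 from Subtype.ext hv2, map_one])
          (fun e => hv1 (congrArg Subtype.val ((MulEquiv.map_eq_one_iff φ).1 e)))
        refine ⟨(φ.symm g).1, (φ.symm g).2, ?_⟩
        have e' := congrArg (fun z => (φ.symm z).1) hg
        simpa using e'
      memS := hmemS }
  -- `t` is not central
  have hcen : ¬ ∀ g : G, Commute g t := by
    intro hall
    rcases IsSimpleGroup.eq_bot_or_eq_top_of_normal (Subgroup.center G) inferInstance with hc | hc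
    · exact ht1 (Subgroup.mem_bot.1 (hc ▸ Subgroup.mem_center_iff.2 fun g => hall g))
    · exact hna ⟨⟨fun x y => (Subgroup.mem_center_iff.1 (hc ▸ Subgroup.mem_top y) x)⟩⟩
  have hfull : ∀ s ∈ S, s ≠ 1 → ∃ m ∈ Subgroup.normalizer ((S : Subgroup G) : Set G),
      m * t * m⁻¹ = s := by
    rcases h.orbit ⊤ (fun c _ => Subgroup.mem_top c) with hh | hh
    · exfalso
      obtain ⟨N, hN, hNodd, hNc⟩ := Cfsg.Agent.S0215.result S t ht htS
        (fun g => hh g (Subgroup.mem_top g))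
      rcases IsSimpleGroup.eq_bot_or_eq_top_of_normal N hN with rfl | rfl
      · exact hcen fun g => (mul_inv_eq_iff_eq_mul.1 (mul_inv_eq_one.1
          (Subgroup.mem_bot.1 (hNc g)))).symm
      · rw [Subgroup.card_top] at hNodd
        exact Nat.not_even_iff_odd.2 hNodd (even_iff_two_dvd.2 (ht ▸ orderOf_dvd_natCard t))
    · intro s hs hs1
      obtain ⟨m, -, hm, e⟩ := hh s hs hs1
      exact ⟨m, hm, e⟩
  refine ⟨fun e => hcen fun g => Subgroup.mem_centralizer_singleton_iff.1 (e ▸ Subgroup.mem_top g),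
    fun M hM => ?_⟩
  by_contra hMtop
  have hCM : ∀ c : G, Commute c t → c ∈ M := fun c hc =>
    hM.le (Subgroup.mem_centralizer_singleton_iff.2 hc)
  rcases h.orbit M hCM with hh | hh
  · exact hM.ne (le_antisymm hM.le fun g hg => Subgroup.mem_centralizer_singleton_iff.2
      (h.isolated M hCM hh hfull g hg))
  -- otherwise `M` is strongly embedded
  have hCs : ∀ s ∈ S, s ≠ 1 → ∀ c : G, Commute c s → c ∈ M := by
    intro s hs hs1 c hc
    obtain ⟨m, hmM, -, hm⟩ := hh s hs hs1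
    have h1 : Commute (m⁻¹ * c * m) t := by
      have := commute_conj hc m⁻¹
      rwa [inv_inv, ← hm, show m⁻¹ * (m * t * m⁻¹) * m = t by group] at this
    have := M.mul_mem (M.mul_mem hmM (hCM _ h1)) (M.inv_mem hmM)
    rwa [show m * (m⁻¹ * c * m) * m⁻¹ = c by group] at this
  have hNS : ∀ n ∈ Subgroup.normalizer ((S : Subgroup G) : Set G), n ∈ M := by
    intro n hn
    have hnt : n * t * n⁻¹ ∈ S := (Subgroup.mem_normalizer_iff.1 hn t).1 htS
    obtain ⟨m, hmM, -, hm⟩ := hh _ hnt (conj_ne_one ht1 n)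
    have h1 : Commute (m⁻¹ * n) t := mul_inv_eq_iff_eq_mul.1 (by
      calc m⁻¹ * n * t * (m⁻¹ * n)⁻¹ = m⁻¹ * (n * t * n⁻¹) * m := by group
        _ = t := by rw [← hm]; group)
    have := M.mul_mem hmM (hCM _ h1)
    rwa [mul_inv_cancel_left] at this
  have hSM : (S : Subgroup G) ≤ M := fun x hx => hCM x (hSab x hx t htS)
  have hS1 : (S : Subgroup G) ≠ ⊥ := fun e => ht1 (Subgroup.mem_bot.1 (e ▸ htS))
  have hSE : Cfsg.IsStronglyEmbedded M := by
    refine StronglyEmbedded.intro_of_sylow hMtop S hSM hS1 fun Q hQS hQ1 n hn => ?_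
    obtain ⟨s, hsQ, hs1⟩ : ∃ s ∈ Q, s ≠ 1 := by
      by_contra hno
      exact hQ1 ((Subgroup.eq_bot_iff_forall Q).2 fun x hx => by_contra fun hx1 => hno ⟨x, hx, hx1⟩)
    set D := Subgroup.centralizer (Q : Set G)
    have hSD : (S : Subgroup G) ≤ D := fun x hx =>
      Subgroup.mem_centralizer_iff.2 fun q hq => (hSab q (hQS hq) x hx).eq
    have hSD' : ((n • S : Sylow 2 G) : Subgroup G) ≤ D := by
      rintro _ ⟨x, hx, rfl⟩
      refine Subgroup.mem_centralizer_iff.2 fun q hq => ?_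
      have hq' : n⁻¹ * q * n ∈ Q := by
        have := (Subgroup.mem_normalizer_iff.1 (inv_mem hn) q).1 hq
        rwa [inv_inv] at this
      have h1 := commute_conj (hSab x hx _ (hQS hq')) n
      rw [show n * (n⁻¹ * q * n) * n⁻¹ = q by group] at h1
      exact h1.eq.symm
    obtain ⟨c, hc⟩ := MulAction.exists_smul_eq D ((n • S : Sylow 2 G).subtype hSD') (S.subtype hSD)
    have hcn : (c : G) * n ∈ Subgroup.normalizer ((S : Subgroup G) : Set G) := by
      refine Subgroup.mem_normalizer_iff_map_conj_eq.2 (Subgroup.eq_of_le_of_card_ge ?_ ?_)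
      · rintro _ ⟨x, hx, rfl⟩
        have hy : (⟨n * x * n⁻¹, hSD' ⟨x, hx, rfl⟩⟩ : D) ∈
            ((n • S : Sylow 2 G).subtype hSD' : Subgroup D) := ⟨x, hx, rfl⟩
        have : c * ⟨n * x * n⁻¹, hSD' ⟨x, hx, rfl⟩⟩ * c⁻¹ ∈ (S.subtype hSD : Subgroup D) :=
          hc ▸ ⟨_, hy, rfl⟩
        change (c : G) * n * x * ((c : G) * n)⁻¹ ∈ S
        rw [show (c : G) * n * x * ((c : G) * n)⁻¹ = (c : G) * (n * x * n⁻¹) * (c : G)⁻¹ by group]
        exact this
      · rw [Subgroup.card_map_of_injective (MulAut.conj ((c : G) * n)).injective]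
    have hcM : (c : G) ∈ M := hCs s (hQS hsQ) hs1 _
      (Subgroup.mem_centralizer_iff.1 c.2 s hsQ).symm
    have := M.mul_mem (M.inv_mem hcM) (hNS _ hcn)
    rwa [inv_mul_cancel_left] at this
  have hna' : ∃ x y : G, x * y ≠ y * x := by
    by_contra hno
    push Not at hno
    exact hna ⟨⟨hno⟩⟩
  have hcard : Nat.card (S : Subgroup G) ≤ 8 := by
    have hsub : ((S : Subgroup G) : Set G) ⊆
        ↑({1, a, b, a * b, t, t * a, t * b, t * (a * b)} : Finset G) := by
      intro s hs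
      simpa using h.cases hs
    rw [← SetLike.coe_sort_coe, Nat.card_coe_set_eq]
    refine (Set.ncard_le_ncard hsub (Finset.finite_toSet _)).trans ?_
    rw [Set.ncard_coe_finset,
      show ({1, a, b, a * b, t, t * a, t * b, t * (a * b)} : Finset G) =
        [1, a, b, a * b, t, t * a, t * b, t * (a * b)].toFinset by simp]
    exact List.toFinset_card_le _
  have h64 : ∀ k : ℕ, 6 ≤ k → 2 ^ k ∣ Nat.card G → False := by
    intro k hk hdvd
    rw [S.card_eq_multiplicity] at hcard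
    have := (Nat.prime_two.pow_dvd_iff_le_factorization Nat.card_pos.ne').1 hdvd
    have := Nat.pow_le_pow_right (show 1 ≤ 2 by norm_num) (hk.trans this)
    omega
  obtain ⟨n, -, hnt, hna2, -, -⟩ := h.exists_cycle
  rcases hB hna' M hSE with ⟨K, _, _, hK2, -, ⟨ψ⟩⟩ | ⟨-, m, hm, hsz⟩ | ⟨K, _, _, q, hq, hqe, hq4, ⟨ψ⟩⟩
  · haveI := hK2
    have := (commute_of_two_eq_zero (CharTwo.two_eq_zero (R := K))
      (x := ψ t) (by rw [MulEquiv.orderOf_eq, ht]) (hnt.symm.map ψ) (hta.map ψ)).map ψ.symm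
    simp only [MulEquiv.symm_apply_apply] at this
    rw [this.eq, mul_inv_cancel_right] at hna2
    exact hab' hna2
  · refine h64 ((2 * m + 1) * 2) (by omega) ?_
    rw [hsz, pow_mul, mul_assoc]
    exact Dvd.intro _ rfl
  · obtain ⟨p, hp⟩ := CharP.exists K
    obtain ⟨f, hpp, hf⟩ := FiniteField.card K p
    have hp2' : p = 2 := by
      by_contra hp'
      have hodd' : Odd (p ^ (f : ℕ)) := (hpp.odd_of_ne_two hp').pow
      rw [← hf, hq] at hodd'
      exact Nat.not_even_iff_odd.2 hodd' (hqe.pow_of_ne_zero two_ne_zero)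
    subst hp2'
    obtain ⟨j, -, rfl⟩ := (Nat.dvd_prime_pow Nat.prime_two).1
      (show q ∣ 2 ^ (f : ℕ) from hf ▸ hq ▸ dvd_pow_self q two_ne_zero)
    have hj : 2 ≤ j := (Nat.pow_le_pow_iff_right (by norm_num : 1 < 2)).1 hq4
    haveI : Finite (Cfsg.PSU 3 K (2 ^ j)) := Finite.of_equiv G ψ.toEquiv
    obtain ⟨hc, -, -⟩ := Cfsg.Agent.S1141.result hj hq (default : Sylow 2 (Cfsg.PSU 3 K (2 ^ j)))
    refine h64 (j * 3) (by omega) ?_
    rw [pow_mul, ← hc, Nat.card_congr ψ.toEquiv]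
    exact Subgroup.card_subgroup_dvd_card _

end CfsgLib.AbPSL44
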