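import Cfsg.Agent.AbPSL44.Basic
import Cfsg.Agent.S0215
import Cfsg.Agent.S0205
import Mathlib

/-!
A subgroup containing `C(t)` in which `t` is isolated is `C(t)`.
-/

set_option autoImplicit false

namespace CfsgLib.AbPSL44

variable {G : Type*} [Group G] {S : Sylow 2 G} {t a b : G} {E E₀ : Subgroup G}

/-- The centralizer of `t` normalizes `E₀`. -/
theorem Conf.conj_e0 (h : Conf S t a b E E₀) {c x : G} (hc : Commute c t) (hx : x ∈ E₀) :
    c * x * c⁻¹ ∈ E₀ := by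
  obtain ⟨e, he, rfl | rfl⟩ := h.cdec c hc
  · exact h.e0n _ he x hx
  · have := h.e0comm (h.e0n e he x hx)
    rw [show t * e * x * (t * e)⁻¹ = t * (e * x * e⁻¹) * t⁻¹ by group, ← this.eq,
      mul_inv_cancel_right]
    exact h.e0n e he x hx

/-- The eight elements of `S`. -/
theorem Conf.cases (h : Conf S t a b E E₀) {s : G} (hs : s ∈ S) :
    s = 1 ∨ s = a ∨ s = b ∨ s = a * b ∨ s = t ∨ s = t * a ∨ s = t * b ∨ s = t * (a * b) := by
  obtain ⟨r, hr, -, hra, hrb, e⟩ := h.memS s hs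
  rcases h.klein r hr hra hrb with rfl | rfl | rfl | rfl <;> rcases e with rfl | rfl <;> simp

variable [Finite G]

/-- Inside `M` the involution `t` is isolated or fused to all of `S#`. -/
theorem Conf.orbit (h : Conf S t a b E E₀) (M : Subgroup G) (hCM : ∀ c : G, Commute c t → c ∈ M) :
    (∀ g ∈ M, g * t * g⁻¹ ∈ S → g * t * g⁻¹ = t) ∨
      (∀ s ∈ S, s ≠ 1 → ∃ m ∈ M, m ∈ Subgroup.normalizer ((S : Subgroup G) : Set G) ∧
        m * t * m⁻¹ = s) := by
  classical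
  have : Fact (Nat.Prime 2) := ⟨Nat.prime_two⟩
  rcases em (∀ g ∈ M, g * t * g⁻¹ ∈ S → g * t * g⁻¹ = t) with hh | hh
  · exact Or.inl hh
  refine Or.inr ?_
  push Not at hh
  obtain ⟨g, hgM, hgS, hgne⟩ := hh
  set N := Subgroup.normalizer ((S : Subgroup G) : Set G)
  have hSM : (S : Subgroup G) ≤ M := fun x hx => hCM x (h.commS hx h.tS)
  set SM := S.subtype hSM
  have : IsMulCommutative (SM : Subgroup M) := ⟨⟨fun x y => Subtype.ext (Subtype.ext
    (h.commS (show (x.1 : G) ∈ S from x.2) (show (y.1 : G) ∈ S from y.2)))⟩⟩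
  obtain ⟨m', hm', hme⟩ := Sylow.conj_eq_normalizer_conj_of_mem SM (⟨t, hSM h.tS⟩ : M)
    (⟨g, hgM⟩ : M)⁻¹ h.tS (show (g⁻¹⁻¹ : G) * t * g⁻¹ ∈ (S : Subgroup G) by
      rw [inv_inv]; exact hgS)
  have hme' : g * t * g⁻¹ = (m'.1)⁻¹ * t * m'.1 := by
    have := congrArg Subtype.val hme
    simpa using this
  set m := (m'.1)⁻¹ with hm
  have hmM : m ∈ M := inv_mem m'.2
  have hmN : m ∈ N := by
    refine inv_mem (Subgroup.mem_normalizer_iff.2 fun x => ⟨fun hx => ?_, fun hx => ?_⟩)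
    · exact (Subgroup.mem_normalizer_iff.1 hm' ⟨x, hSM hx⟩).1 hx
    · have hc : (m' : M).1 * x * (m' : M).1⁻¹ ∈ M := hSM hx
      have hxM : x ∈ M := by
        have := M.mul_mem (M.mul_mem (M.inv_mem m'.2) hc) m'.2
        simpa [mul_assoc] using this
      exact (Subgroup.mem_normalizer_iff.1 hm' ⟨x, hxM⟩).2 hx
  clear_value m
  obtain ⟨n, hnN, hnt, hna, hnb, hnab⟩ := h.exists_cycle
  set O : G → Prop := fun s => ∃ k ∈ M, k ∈ N ∧ k * t * k⁻¹ = s with hO
  have hrot : ∀ s, O s → O (n * s * n⁻¹) := fun s ⟨k, hkM, hkN, hk⟩ =>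
    ⟨n * k, mul_mem (hCM n hnt) hkM, mul_mem hnN hkN, by rw [← hk]; group⟩
  have hOt : O t := ⟨1, one_mem _, one_mem _, by group⟩
  set u := m * t * m⁻¹ with hu
  set v := m⁻¹ * t * m with hv
  have hune : u ≠ t := fun e => hgne (by
    calc g * t * g⁻¹ = u := by rw [hme', hu, hm, inv_inv]
      _ = t := e)
  have hvne : v ≠ t := fun e => hune (by
    calc u = m * (m⁻¹ * t * m) * m⁻¹ := by rw [← hv, e]
      _ = t := by group)
  have hOu : O u := ⟨m, hmM, hmN, rfl⟩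
  have hOv : O v := ⟨m⁻¹, inv_mem hmM, inv_mem hmN, by rw [inv_inv]⟩
  have key : ∀ p : G, p ∈ N → Commute p t → v ≠ p * u * p⁻¹ := by
    intro p hp hpt e
    have h2 : Commute ((p * m) * (p * m)) t := by
      refine mul_inv_eq_iff_eq_mul.1 ?_
      calc p * m * (p * m) * t * (p * m * (p * m))⁻¹ = p * m * (p * u * p⁻¹) * (p * m)⁻¹ := by
            rw [hu]; group
        _ = p * t * p⁻¹ := by rw [← e, hv]; group
        _ = t := by rw [hpt.eq, mul_inv_cancel_right]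
    have h3 := fix_of_sq (fun x hx y hy => h.commS hx hy) (mul_mem hp hmN) h.tS h2
    refine hvne (e.trans ?_)
    rw [hu, show p * (m * t * m⁻¹) * p⁻¹ = p * m * t * (p * m)⁻¹ by group, h3.eq,
      mul_inv_cancel_right]
  have k1 := key 1 (one_mem _) (Commute.one_left _)
  have k2 := key n hnN hnt
  have k3 := key (n * n) (mul_mem hnN hnN) (hnt.mul_left hnt)
  simp only [one_mul, inv_one, mul_one] at k1
  have e3 : ∀ y, n * n * y * (n * n)⁻¹ = n * (n * y * n⁻¹) * n⁻¹ := fun y => by group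
  rw [e3] at k3
  have htn : ∀ y, n * (t * y) * n⁻¹ = t * (n * y * n⁻¹) := fun y => by
    calc n * (t * y) * n⁻¹ = (n * t) * y * n⁻¹ := by group
      _ = t * (n * y * n⁻¹) := by rw [hnt.eq]; group
  have hS' : ∀ p : G, p ∈ N → ∀ x ∈ S, p * x * p⁻¹ ∈ S := fun p hp x hx =>
    (Subgroup.mem_normalizer_iff.1 hp x).1 hx
  have huS : u ∈ S := hS' m hmN t h.tS
  have hvS : v ∈ S := by
    have := hS' m⁻¹ (inv_mem hmN) t h.tS
    rwa [inv_inv] at this
  have ht1 : t ≠ 1 := fun e => h.tE (e ▸ one_mem _)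
  have hu1 : u ≠ 1 := conj_ne_one ht1 m
  have hv1 : v ≠ 1 := by
    have := conj_ne_one ht1 m⁻¹
    rwa [inv_inv] at this
  have hnta : n * (t * a) * n⁻¹ = t * b := by rw [htn, hna]
  have hntb : n * (t * b) * n⁻¹ = t * (a * b) := by rw [htn, hnb]
  have hntab : n * (t * (a * b)) * n⁻¹ = t * a := by rw [htn, hnab]
  have hT1 : ∀ x, O x → x = a ∨ x = b ∨ x = a * b → O a ∧ O b ∧ O (a * b) := by
    intro x hx hx'
    have h1 := hrot x hx
    have h2 := hrot _ h1
    rcases hx' with rfl | rfl | rfl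
    · rw [hna] at h1 h2; rw [hnb] at h2; exact ⟨hx, h1, h2⟩
    · rw [hnb] at h1 h2; rw [hnab] at h2; exact ⟨h2, hx, h1⟩
    · rw [hnab] at h1 h2; rw [hna] at h2; exact ⟨h1, h2, hx⟩
  have hT2 : ∀ x, O x → x = t * a ∨ x = t * b ∨ x = t * (a * b) →
      O (t * a) ∧ O (t * b) ∧ O (t * (a * b)) := by
    intro x hx hx'
    have h1 := hrot x hx
    have h2 := hrot _ h1
    rcases hx' with rfl | rfl | rfl
    · rw [hnta] at h1 h2; rw [hntb] at h2; exact ⟨hx, h1, h2⟩
    · rw [hntb] at h1 h2; rw [hntab] at h2; exact ⟨h2, hx, h1⟩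
    · rw [hntab] at h1 h2; rw [hnta] at h2; exact ⟨h1, h2, hx⟩
  obtain ⟨hA, hB⟩ : (O a ∧ O b ∧ O (a * b)) ∧ O (t * a) ∧ O (t * b) ∧ O (t * (a * b)) := by
    have cu := h.cases huS
    have cv := h.cases hvS
    simp only [hu1, hune, hv1, hvne, false_or] at cu cv
    rcases cu with cu | cu | cu | cu | cu | cu <;>
      rcases cv with cv | cv | cv | cv | cv | cv <;>
      first
        | exact ⟨hT1 u hOu (.inl cu), hT2 v hOv (.inl cv)⟩
        | exact ⟨hT1 u hOu (.inl cu), hT2 v hOv (.inr (.inl cv))⟩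
        | exact ⟨hT1 u hOu (.inl cu), hT2 v hOv (.inr (.inr cv))⟩
        | exact ⟨hT1 u hOu (.inr (.inl cu)), hT2 v hOv (.inl cv)⟩
        | exact ⟨hT1 u hOu (.inr (.inl cu)), hT2 v hOv (.inr (.inl cv))⟩
        | exact ⟨hT1 u hOu (.inr (.inl cu)), hT2 v hOv (.inr (.inr cv))⟩
        | exact ⟨hT1 u hOu (.inr (.inr cu)), hT2 v hOv (.inl cv)⟩
        | exact ⟨hT1 u hOu (.inr (.inr cu)), hT2 v hOv (.inr (.inl cv))⟩
        | exact ⟨hT1 u hOu (.inr (.inr cu)), hT2 v hOv (.inr (.inr cv))⟩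
        | exact ⟨hT1 v hOv (.inl cv), hT2 u hOu (.inl cu)⟩
        | exact ⟨hT1 v hOv (.inl cv), hT2 u hOu (.inr (.inl cu))⟩
        | exact ⟨hT1 v hOv (.inl cv), hT2 u hOu (.inr (.inr cu))⟩
        | exact ⟨hT1 v hOv (.inr (.inl cv)), hT2 u hOu (.inl cu)⟩
        | exact ⟨hT1 v hOv (.inr (.inl cv)), hT2 u hOu (.inr (.inl cu))⟩
        | exact ⟨hT1 v hOv (.inr (.inl cv)), hT2 u hOu (.inr (.inr cu))⟩
        | exact ⟨hT1 v hOv (.inr (.inr cv)), hT2 u hOu (.inl cu)⟩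
        | exact ⟨hT1 v hOv (.inr (.inr cv)), hT2 u hOu (.inr (.inl cu))⟩
        | exact ⟨hT1 v hOv (.inr (.inr cv)), hT2 u hOu (.inr (.inr cu))⟩
        | (exfalso; simp [cu, cv, hna, hnb, hnab, hnta, hntb, hntab] at k1 k2 k3)
  intro s hs hs1
  rcases h.cases hs with rfl | rfl | rfl | rfl | rfl | rfl | rfl | rfl
  exacts [absurd rfl hs1, hA.1, hA.2.1, hA.2.2, hOt, hB.1, hB.2.1, hB.2.2]

/-- An odd subgroup of `C(t)` normalized by `C(t)` is trivial. -/
theorem Conf.core_trivial (h : Conf S t a b E E₀) (X : Subgroup G)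
    (hXt : ∀ x ∈ X, Commute x t) (hodd : Odd (Nat.card X))
    (hn : ∀ c : G, Commute c t → X.map (MulAut.conj c).toMonoidHom = X) : X = ⊥ := by
  obtain ⟨N, hN⟩ : ∃ N, Nat.card X = N := ⟨_, rfl⟩
  induction N using Nat.strong_induction_on generalizing X with
  | _ N ih =>
    by_contra hX
    have := Cfsg.Agent.S0205.result hodd
    set D := ⁅X, X⁆ with hD
    have hlt : D < X := by
      have : Group.IsSolvable X := this
      have h1 : ⁅(⊤ : Subgroup X), ⊤⁆ < ⊤ := Group.IsSolvable.commutator_lt_of_ne_bot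
        (fun e => hX (X.nontrivial_iff_ne_bot.not_left.1 (fun _ => top_ne_bot (α := Subgroup X) e)))
      have h2 := (Subgroup.map_lt_map_iff_of_injective X.subtype_injective).2 h1
      rwa [Subgroup.map_commutator, ← MonoidHom.range_eq_map, Subgroup.range_subtype] at h2
    have hD0 : D = ⊥ := by
      refine ih _ ?_ D (fun x hx => hXt x (hlt.le hx))
        (hodd.of_dvd_nat (Subgroup.card_dvd_of_le hlt.le)) (fun c hc => ?_) rfl
      · rw [← hN]
        refine lt_of_le_of_ne (Subgroup.card_le_of_le hlt.le) fun e => hlt.ne ?_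
        exact Subgroup.eq_of_le_of_card_ge hlt.le e.ge
      · rw [hD, Subgroup.map_commutator, hn c hc]
    have hab : ∀ x ∈ X, ∀ y ∈ X, Commute x y := fun x hx y hy =>
      commutatorElement_eq_one_iff_commute.1
        (Subgroup.mem_bot.1 (hD0 ▸ Subgroup.commutator_mem_commutator hx hy))
    have hnorm : ∀ c : G, Commute c t → ∀ x ∈ X, c * x * c⁻¹ ∈ X := fun c hc x hx => by
      rw [← hn c hc]; exact ⟨x, hx, rfl⟩
    have ho : ∀ x ∈ X, Odd (orderOf x) := fun x hx =>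
      hodd.of_dvd_nat (Subgroup.orderOf_coe ⟨x, hx⟩ ▸ orderOf_dvd_natCard (⟨x, hx⟩ : X))
    obtain ⟨n, hnN, hnt, hna, hnb, hnab⟩ := h.exists_cycle
    have hstep : ∀ x ∈ X, x ∈ E₀ → a * x * a⁻¹ = x⁻¹ := by
      intro x hx hx0
      have hat : Commute a t := h.e0comm h.a0
      have hax : a * x * a⁻¹ ∈ X := hnorm a hat x hx
      set y := x * (a * x * a⁻¹) with hy
      have hyX : y ∈ X := mul_mem hx hax
      have hy0 : y ∈ E₀ := mul_mem hx0 (mul_mem (mul_mem h.a0 hx0) (inv_mem h.a0))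
      suffices y = 1 by exact (inv_eq_of_mul_eq_one_right this).symm
      by_contra hy1
      have hia : a⁻¹ = a := inv_eq_of_mul_eq_one_right h.asq
      have hya : Commute a y := mul_inv_eq_iff_eq_mul.1 (by
        calc a * y * a⁻¹ = (a * x * a⁻¹) * ((a * a) * x * (a * a)⁻¹) := by rw [hy]; group
          _ = (a * x * a⁻¹) * x := by rw [h.asq]; group
          _ = y := (hab _ hax _ hx).eq)
      set y1 := n * y * n⁻¹ with hy1'
      have hy1X : y1 ∈ X := hnorm n hnt y hyX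
      have hy10 : y1 ∈ E₀ := h.conj_e0 hnt hy0
      have c1 : Commute a y1 := h.ca y hy0 a h.a0 y1 hy10
        (fun e => hy1 (eq_one_of_odd_of_sq (ho y hyX) e)) hya.symm (hab y hyX y1 hy1X)
      have c2 : Commute y1 b := by
        have := commute_conj hya.symm n
        rwa [hna] at this
      have hsq : y1 * y1 = 1 := by
        rcases h.klein y1 hy10 c1.symm c2 with e | e | e | e <;> rw [e]
        exacts [one_mul 1, h.asq, h.bsq, h.mul_sq h.aS h.bS h.asq h.bsq]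
      exact conj_ne_one hy1 n (eq_one_of_odd_of_sq (ho y1 hy1X) hsq)
    have hX0 : ∀ x ∈ X, x ∈ E₀ → x = 1 := by
      intro x hx hx0
      have hn' : Commute n⁻¹ t := hnt.inv_left
      have rot : ∀ u, (∀ z ∈ X, z ∈ E₀ → u * z * u⁻¹ = z⁻¹) →
          ∀ z ∈ X, z ∈ E₀ → (n * u * n⁻¹) * z * (n * u * n⁻¹)⁻¹ = z⁻¹ := by
        intro u hu z hz hz0
        have h1 := inverted_conj (hu _ (hnorm _ hn' z hz) (h.conj_e0 hn' hz0)) n
        rwa [show n * (n⁻¹ * z * n⁻¹⁻¹) * n⁻¹ = z by group] at h1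
      have hb := rot a hstep
      rw [hna] at hb
      have hab' := rot b hb
      rw [hnb] at hab'
      have hc : Commute (a * b) x := mul_inv_eq_iff_eq_mul.1 (by
        calc a * b * x * (a * b)⁻¹ = a * (b * x * b⁻¹) * a⁻¹ := by group
          _ = (a * x * a⁻¹)⁻¹ := by rw [hb x hx hx0]; group
          _ = x := by rw [hstep x hx hx0, inv_inv])
      exact eq_one_of_fix_invert (ho x hx) hc (hab' x hx hx0)
    refine hX ((Subgroup.eq_bot_iff_forall X).2 fun x hx => ?_)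
    have hxE := h.odd_mem (hXt x hx) (ho x hx)
    refine h.cent x hxE fun g hg => ?_
    have h1 : x * g * x⁻¹ * g⁻¹ ∈ E₀ := mul_mem (h.e0n x hxE g hg) (inv_mem hg)
    have h2 : x * g * x⁻¹ * g⁻¹ ∈ X := by
      rw [show x * g * x⁻¹ * g⁻¹ = x * (g * x⁻¹ * g⁻¹) by group]
      exact mul_mem hx (hnorm g (h.e0comm hg) _ (inv_mem hx))
    exact mul_inv_eq_iff_eq_mul.1 (mul_inv_eq_one.1 (hX0 _ h2 h1))

/-- The main step: if `t` is isolated in `M`, then `M` centralizes `t`. -/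
theorem Conf.isolated (h : Conf S t a b E E₀) (M : Subgroup G)
    (hCM : ∀ c : G, Commute c t → c ∈ M)
    (hiso : ∀ g ∈ M, g * t * g⁻¹ ∈ S → g * t * g⁻¹ = t)
    (hfull : ∀ s ∈ S, s ≠ 1 → ∃ m ∈ Subgroup.normalizer ((S : Subgroup G) : Set G),
      m * t * m⁻¹ = s) : ∀ g ∈ M, Commute g t := by
  classical
  have : Fact (Nat.Prime 2) := ⟨Nat.prime_two⟩
  have ht1 : t ≠ 1 := fun e => h.tE (e ▸ one_mem _)
  have hord : orderOf t = 2 := orderOf_eq_prime (by rw [pow_two, h.tsq]) ht1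
  have hSM : (S : Subgroup G) ≤ M := fun x hx => hCM x (h.commS hx h.tS)
  obtain ⟨N, hNn, hNodd, hNc⟩ := Cfsg.Agent.S0215.result (S.subtype hSM) (⟨t, hSM h.tS⟩ : M)
    (by rw [← Subgroup.orderOf_coe]; exact hord) h.tS
    (fun g hg => Subtype.ext (hiso g.1 g.2 hg))
  set K := N.map M.subtype with hK
  have hKM : K ≤ M := Subgroup.map_subtype_le N
  have hKodd : Odd (Nat.card K) := by
    rwa [hK, Nat.card_congr (N.equivMapOfInjective _ M.subtype_injective).toEquiv.symm]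
  have hKn : ∀ g ∈ M, ∀ x ∈ K, g * x * g⁻¹ ∈ K := by
    rintro g hg _ ⟨x, hx, rfl⟩
    exact ⟨⟨g, hg⟩ * x * ⟨g, hg⟩⁻¹, hNn.conj_mem x hx _, rfl⟩
  have hKc : ∀ g ∈ M, t * g * t⁻¹ * g⁻¹ ∈ K := fun g hg => ⟨_, hNc ⟨g, hg⟩, rfl⟩
  suffices hK1 : ∀ x ∈ K, x = 1 by
    intro g hg
    exact (mul_inv_eq_iff_eq_mul.1 (mul_inv_eq_one.1 (hK1 _ (hKc g hg)))).symm
  have ho : ∀ x ∈ K, Odd (orderOf x) := fun x hx =>
    hKodd.of_dvd_nat (Subgroup.orderOf_coe ⟨x, hx⟩ ▸ orderOf_dvd_natCard (⟨x, hx⟩ : K))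
  have hfix : ∀ x ∈ K, Commute x t → x = 1 := by
    set X := K ⊓ Subgroup.centralizer ({t} : Set G)
    have hX := h.core_trivial X (fun x hx => Subgroup.mem_centralizer_singleton_iff.1 hx.2)
      (hKodd.of_dvd_nat (Subgroup.card_dvd_of_le inf_le_left)) (fun c hc => by
        have key : ∀ d : G, Commute d t → ∀ x ∈ X, d * x * d⁻¹ ∈ X := fun d hd x hx =>
          ⟨hKn d (hCM d hd) x hx.1, Subgroup.mem_centralizer_singleton_iff.2
            ((hd.mul_left (Subgroup.mem_centralizer_singleton_iff.1 hx.2)).mul_left hd.inv_left)⟩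
        refine le_antisymm (Subgroup.map_le_iff_le_comap.2 fun x hx => key c hc x hx)
          fun x hx => ⟨c⁻¹ * x * c⁻¹⁻¹, key c⁻¹ hc.inv_left x hx, ?_⟩
        change c * (c⁻¹ * x * c⁻¹⁻¹) * c⁻¹ = x
        group)
    intro x hx hxt
    exact Subgroup.mem_bot.1 (hX ▸ (⟨hx, Subgroup.mem_centralizer_singleton_iff.2 hxt⟩ : x ∈ X))
  have htM : t ∈ M := hSM h.tS
  have hinvt : ∀ x ∈ K, t * x * t⁻¹ = x⁻¹ := by
    set f : K → K := fun x =>
      ⟨(x : G)⁻¹ * (t * x * t⁻¹), mul_mem (inv_mem x.2) (hKn t htM _ x.2)⟩ with hf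
    have hinj : Function.Injective f := by
      intro x y hxy
      have e : (x : G)⁻¹ * (t * x * t⁻¹) = (y : G)⁻¹ * (t * y * t⁻¹) := congrArg Subtype.val hxy
      have e' : t * ((x : G) * (y : G)⁻¹) * t⁻¹ = (x : G) * (y : G)⁻¹ := by
        calc t * ((x : G) * (y : G)⁻¹) * t⁻¹
            = x * ((x : G)⁻¹ * (t * x * t⁻¹)) * (t * y * t⁻¹)⁻¹ := by group
          _ = x * (y : G)⁻¹ := by rw [e]; group
      have h2 := hfix _ (mul_mem x.2 (inv_mem y.2)) (mul_inv_eq_iff_eq_mul.1 e').symm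
      exact Subtype.ext (mul_inv_eq_one.1 h2)
    intro x hx
    obtain ⟨y, hy⟩ := Finite.surjective_of_injective hinj ⟨x, hx⟩
    have e : (y : G)⁻¹ * (t * y * t⁻¹) = x := congrArg Subtype.val hy
    rw [← e]
    calc t * ((y : G)⁻¹ * (t * y * t⁻¹)) * t⁻¹
        = (t * y * t⁻¹)⁻¹ * ((t * t) * y * (t * t)⁻¹) := by group
      _ = ((y : G)⁻¹ * (t * y * t⁻¹))⁻¹ := by rw [h.tsq]; group
  have hKab : ∀ x ∈ K, ∀ y ∈ K, Commute x y := by
    intro x hx y hy
    have e := hinvt _ (mul_mem hx hy)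
    rw [show t * (x * y) * t⁻¹ = (t * x * t⁻¹) * (t * y * t⁻¹) by group, hinvt x hx, hinvt y hy,
      ← mul_inv_rev] at e
    exact (inv_injective e).symm
  obtain ⟨n, hnN, hnt, hna, hnb, hnab⟩ := h.exists_cycle
  have hSK : ∀ s ∈ S, ∀ x ∈ K, s * x * s⁻¹ ∈ K := fun s hs x hx => hKn s (hSM hs) x hx
  have eig : ∀ u v z : G, u ∈ S → v ∈ S → z ∈ S → n * u * n⁻¹ = v → n * v * n⁻¹ = z →
      n * z * n⁻¹ = u → z ≠ t → z * z = 1 → ∀ x ∈ K, Commute u x → v * x * v⁻¹ = x⁻¹ →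
      z * x * z⁻¹ = x⁻¹ → x = 1 := by
    intro u v z huS hvS hzS huv hvz hzu hzt hzsq x hx hxu hxv hxz
    by_contra hx1
    set y := n * x * n⁻¹ with hy
    have hyK : y ∈ K := hKn n (hCM n hnt) x hx
    have hyz : z * y * z⁻¹ = y⁻¹ := by
      have := inverted_conj hxv n
      rwa [hvz] at this
    have hyu : u * y * u⁻¹ = y⁻¹ := by
      have := inverted_conj hxz n
      rwa [hzu] at this
    have hcz : ∀ w ∈ K, z * w * z⁻¹ = w⁻¹ → Commute w (t * z) := fun w hw hwz =>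
      ((mul_inv_eq_iff_eq_mul.1 (by
        calc t * z * w * (t * z)⁻¹ = t * (z * w * z⁻¹) * t⁻¹ := by group
          _ = (t * w * t⁻¹)⁻¹ := by rw [hwz]; group
          _ = w := by rw [hinvt w hw, inv_inv]) : Commute (t * z) w)).symm
    have htz1 : t * z ≠ 1 := fun e => hzt (mul_left_cancel (a := t) (e.trans h.tsq.symm))
    obtain ⟨m, hmN, hm⟩ := hfull (t * z) (mul_mem h.tS hzS) htz1
    have hpull : ∀ w ∈ K, z * w * z⁻¹ = w⁻¹ → Commute (m⁻¹ * w * m) t := fun w hw hwz => by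
      have := commute_conj (hcz w hw hwz) m⁻¹
      rwa [inv_inv, ← hm, show m⁻¹ * (m * t * m⁻¹) * m = t by group] at this
    have hSm : ∀ s ∈ S, m⁻¹ * s * m ∈ S := fun s hs => by
      have := (Subgroup.mem_normalizer_iff.1 (inv_mem hmN) s).1 hs
      rwa [inv_inv] at this
    have hsc : Commute (m⁻¹ * u * m) (m⁻¹ * x * m) := by
      have := commute_conj hxu m⁻¹
      rwa [inv_inv] at this
    have hodd' : ∀ w ∈ K, Odd (orderOf (m⁻¹ * w * m)) := fun w hw => by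
      have := odd_orderOf_conj (ho w hw) m⁻¹
      rwa [inv_inv] at this
    have hinv' : ∀ s w : G, s * w * s⁻¹ = w⁻¹ →
        (m⁻¹ * s * m) * (m⁻¹ * w * m) * (m⁻¹ * s * m)⁻¹ = (m⁻¹ * w * m)⁻¹ := fun s w e => by
      have := inverted_conj e m⁻¹
      rwa [inv_inv] at this
    have hxy : Commute (m⁻¹ * x * m) (m⁻¹ * y * m) := by
      have := commute_conj (hKab x hx y hyK) m⁻¹
      rwa [inv_inv] at this
    have h2 := h.two (hpull x hx hxz) (hpull y hyK hyz) (hodd' x hx) (hodd' y hyK) hxy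
      (fun e => hx1 (by
        calc x = m * (m⁻¹ * x * m) * m⁻¹ := by group
          _ = 1 := by rw [e]; group))
      (hSm u huS) hsc (hinv' u y hyu) (hSm z hzS) (hinv' z x hxz)
    refine conj_ne_one hx1 n ?_
    calc y = m * (m⁻¹ * y * m) * m⁻¹ := by group
      _ = 1 := by rw [h2]; group
  have habS : a * b ∈ S := mul_mem h.aS h.bS
  have habsq := h.mul_sq h.aS h.bS h.asq h.bsq
  have hne_t : ∀ x ∈ E₀, x ≠ t := fun x hx e => h.tE (e ▸ h.e0le hx)
  have hca : ∀ x ∈ K, Commute a x := by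
    intro x hx
    set y := x⁻¹ * (a * x * a⁻¹) with hy
    have hyK : y ∈ K := mul_mem (inv_mem hx) (hSK a h.aS x hx)
    have hya : a * y * a⁻¹ = y⁻¹ := by
      calc a * y * a⁻¹ = (a * x * a⁻¹)⁻¹ * ((a * a) * x * (a * a)⁻¹) := by rw [hy]; group
        _ = y⁻¹ := by rw [h.asq, hy]; group
    set z := y * (b * y * b⁻¹) with hz
    have hzK : z ∈ K := mul_mem hyK (hSK b h.bS y hyK)
    have hzb : Commute b z := mul_inv_eq_iff_eq_mul.1 (by
      calc b * z * b⁻¹ = (b * y * b⁻¹) * ((b * b) * y * (b * b)⁻¹) := by rw [hz]; group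
        _ = (b * y * b⁻¹) * y := by rw [h.bsq]; group
        _ = z := (hKab _ (hSK b h.bS y hyK) _ hyK).eq)
    have hza : a * z * a⁻¹ = z⁻¹ := by
      rw [hz, show a * (y * (b * y * b⁻¹)) * a⁻¹ =
        (a * y * a⁻¹) * (a * b * y * (a * b)⁻¹) by group, (h.commS h.aS h.bS).eq,
        show b * a * y * (b * a)⁻¹ = b * (a * y * a⁻¹) * b⁻¹ by group, hya,
        show b * y⁻¹ * b⁻¹ = (b * y * b⁻¹)⁻¹ by group, ← mul_inv_rev]
      congr 1
      exact (hKab _ (hSK b h.bS y hyK) _ hyK).eq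
    have hzab : (a * b) * z * (a * b)⁻¹ = z⁻¹ := by
      rw [show a * b * z * (a * b)⁻¹ = a * (b * z * b⁻¹) * a⁻¹ by group, hzb.eq,
        mul_inv_cancel_right, hza]
    have hz1 := eig b (a * b) a h.bS habS h.aS hnb hnab hna h.a_ne_t h.asq z hzK hzb hzab hza
    have hyb : b * y * b⁻¹ = y⁻¹ := eq_inv_of_mul_eq_one_right hz1
    have hyab : Commute (a * b) y := mul_inv_eq_iff_eq_mul.1 (by
      calc a * b * y * (a * b)⁻¹ = a * (b * y * b⁻¹) * a⁻¹ := by group
        _ = (a * y * a⁻¹)⁻¹ := by rw [hyb]; group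
        _ = y := by rw [hya, inv_inv])
    have hy1 := eig (a * b) a b habS h.aS h.bS hnab hna hnb (hne_t b h.b0) h.bsq y hyK hyab hya hyb
    rw [hy, inv_mul_eq_one] at hy1
    exact mul_inv_eq_iff_eq_mul.1 hy1.symm
  have hnK : ∀ x ∈ K, n * x * n⁻¹ ∈ K := fun x hx => hKn n (hCM n hnt) x hx
  have hcb : ∀ x ∈ K, Commute b x := by
    intro x hx
    have h1 := commute_conj (hca (n⁻¹ * x * n) (by
      have := hKn n⁻¹ (inv_mem (hCM n hnt)) x hx
      rwa [inv_inv] at this)) n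
    rwa [hna, show n * (n⁻¹ * x * n) * n⁻¹ = x by group] at h1
  -- conjugates of `b` in `E₀` centralize `K`
  have hcbg : ∀ g ∈ E₀, ∀ x ∈ K, Commute (g * b * g⁻¹) x := by
    intro g hg x hx
    have hgM := hCM g (h.e0comm hg)
    have h1 := commute_conj (hcb (g⁻¹ * x * g) (by
      have := hKn g⁻¹ (inv_mem hgM) x hx
      rwa [inv_inv] at this)) g
    rwa [show g * (g⁻¹ * x * g) * g⁻¹ = x by group] at h1
  intro x hx
  by_contra hx1
  obtain ⟨m, hmN, hm⟩ := hfull a h.aS h.a1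
  have hSm : ∀ s ∈ S, m⁻¹ * s * m ∈ S := fun s hs => by
    have := (Subgroup.mem_normalizer_iff.1 (inv_mem hmN) s).1 hs
    rwa [inv_inv] at this
  have pullC : ∀ w : G, Commute w a → Commute (m⁻¹ * w * m) t := fun w hw => by
    have := commute_conj hw m⁻¹
    rwa [inv_inv, ← hm, show m⁻¹ * (m * t * m⁻¹) * m = t by group] at this
  set x' := m⁻¹ * x * m with hx'
  have hx't : Commute x' t := pullC x (hca x hx).symm
  have hx'o : Odd (orderOf x') := by
    have := odd_orderOf_conj (ho x hx) m⁻¹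
    rwa [inv_inv] at this
  have hx'1 : x' ≠ 1 := by
    have := conj_ne_one hx1 m⁻¹
    rwa [inv_inv] at this
  have hx'0 : x' ∈ E₀ := by
    refine h.mem_e0 hx't hx'o (hSm t h.tS) ?_
    have := inverted_conj (hinvt x hx) m⁻¹
    rwa [inv_inv] at this
  set s := m⁻¹ * b * m with hs
  obtain ⟨r, hr, hr2, hra, hrb, hsr⟩ := h.memS s (hSm b h.bS)
  have hsconj : ∀ w : G, Commute w t → s * w * s⁻¹ = r * w * r⁻¹ := fun w hw => by
    rcases hsr with e | e
    · rw [e]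
    · have hc : Commute (r * w * r⁻¹) t :=
        ((h.e0comm hr).mul_left hw).mul_left (h.e0comm (inv_mem hr))
      rw [e, show t * r * w * (t * r)⁻¹ = t * (r * w * r⁻¹) * t⁻¹ by group, ← hc.eq,
        mul_inv_cancel_right]
  have hr1 : r ≠ 1 := by
    intro e
    rcases hsr with e' | e'
    · rw [e, hs] at e'
      exact h.b1 (by
        calc b = m * (m⁻¹ * b * m) * m⁻¹ := by group
          _ = 1 := by rw [e']; group)
    · rw [e, mul_one, hs] at e'
      exact h.ab' (by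
        calc a = m * t * m⁻¹ := hm.symm
          _ = m * (m⁻¹ * b * m) * m⁻¹ := by rw [e']
          _ = b := by group)
  have hrx' : Commute x' r := by
    have e : s * x' * s⁻¹ = x' := by
      have := commute_conj (hcb x hx) m⁻¹
      rw [inv_inv] at this
      rw [this.eq, mul_inv_cancel_right]
    rw [hsconj x' hx't] at e
    exact (mul_inv_eq_iff_eq_mul.1 e).symm
  obtain ⟨g, hg, hgr⟩ := h.conj r hr a h.a0 hr2 hr1 h.asq h.a1
  set d := g * x' * g⁻¹ with hd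
  have hd0 : d ∈ E₀ := mul_mem (mul_mem hg hx'0) (inv_mem hg)
  have hdo : Odd (orderOf d) := odd_orderOf_conj hx'o g
  have hd1 : d ≠ 1 := conj_ne_one hx'1 g
  have hda : Commute d a := by
    have := commute_conj hrx' g
    rwa [hgr] at this
  have hib : b⁻¹ = b := inv_eq_of_mul_eq_one_right h.bsq
  have hab2 := h.commS h.aS h.bS
  set e' := d⁻¹ * (b * d * b⁻¹) with he'
  have he'0 : e' ∈ E₀ := mul_mem (inv_mem hd0) (mul_mem (mul_mem h.b0 hd0) (inv_mem h.b0))
  have he'a : Commute e' a := hda.inv_left.mul_left ((hab2.symm.mul_left hda).mul_left hab2.symm.inv_left)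
  have he'b : b * e' * b⁻¹ = e'⁻¹ := by
    calc b * e' * b⁻¹ = (b * d * b⁻¹)⁻¹ * ((b * b) * d * (b * b)⁻¹) := by rw [he']; group
      _ = e'⁻¹ := by rw [h.bsq, he']; group
  have he'K : ∀ w ∈ K, Commute e' w := fun w hw => by
    rw [show e' = (d⁻¹ * b * d⁻¹⁻¹) * b⁻¹ by rw [he']; group]
    exact (hcbg _ (inv_mem hd0) w hw).mul_left (hcb w hw).inv_left
  obtain ⟨k, o, ho', hko⟩ := Nat.exists_eq_pow_mul_and_not_dvd (orderOf_pos e').ne' 2 (by norm_num)
  set q := e' ^ (2 ^ k) with hq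
  have hqo : Odd (orderOf q) := by
    rw [hq, orderOf_pow, hko, Nat.gcd_eq_right (Dvd.intro _ rfl),
      Nat.mul_div_cancel_left _ (by positivity)]
    exact Nat.odd_iff.2 (by omega)
  have hq0 : q ∈ E₀ := pow_mem he'0 _
  have hqa : Commute q a := he'a.pow_left _
  have hqb : b * q * b⁻¹ = q⁻¹ := by rw [hq, ← conj_pow, he'b, inv_pow]
  have hq1 : q ≠ 1 := by
    intro hq1
    -- `e'` is a 2-element, so commutes with `b`
    have hp2 : ∀ (z : G) (j : ℕ), z ^ (2 ^ j) = 1 → IsPGroup 2 (Subgroup.zpowers z) := by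
      rintro z j hz ⟨y, hy⟩
      obtain ⟨i, rfl⟩ := Subgroup.mem_zpowers_iff.1 hy
      refine ⟨j, Subtype.ext ?_⟩
      change (z ^ i) ^ (2 ^ j) = 1
      rw [← zpow_natCast, ← zpow_mul, mul_comm, zpow_mul, zpow_natCast, hz, one_zpow]
    have hbn : Subgroup.zpowers b ≤ Subgroup.normalizer (Subgroup.zpowers e' : Set G) := by
      refine Subgroup.zpowers_le.2 (Subgroup.mem_normalizer_iff_map_conj_eq.2 ?_)
      rw [MonoidHom.map_zpowers]
      change Subgroup.zpowers (b * e' * b⁻¹) = _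
      rw [he'b, Subgroup.zpowers_inv]
    obtain ⟨Q, hQ⟩ := ((hp2 b 1 (by rw [pow_one, pow_two, h.bsq])).to_sup_of_normal_right'
      (hp2 e' k hq1) hbn).exists_le_sylow
    obtain ⟨c, hc⟩ := MulAction.exists_smul_eq G Q S
    have hQab : ∀ u ∈ Q, ∀ w ∈ Q, Commute u w := by
      intro u hu w hw
      have hu' : c * u * c⁻¹ ∈ S := hc ▸ ⟨u, hu, rfl⟩
      have hw' : c * w * c⁻¹ ∈ S := hc ▸ ⟨w, hw, rfl⟩
      have := commute_conj (h.commS hu' hw') c⁻¹
      rwa [show c⁻¹ * (c * u * c⁻¹) * c⁻¹⁻¹ = u by group,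
        show c⁻¹ * (c * w * c⁻¹) * c⁻¹⁻¹ = w by group] at this
    have hcomm := hQab b (hQ (Subgroup.mem_sup_left (Subgroup.mem_zpowers b))) e'
      (hQ (Subgroup.mem_sup_right (Subgroup.mem_zpowers e')))
    rw [hcomm.eq, mul_inv_cancel_right] at he'b
    have he2 : e' * e' = 1 := by nth_rw 2 [he'b]; exact mul_inv_cancel e'
    -- so `e'` is in the four group
    rcases h.klein e' he'0 he'a hcomm.symm with e | e | e | e
    · have hbd : Commute b d := mul_inv_eq_iff_eq_mul.1 (inv_mul_eq_one.1 e).symm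
      refine hd1 (eq_one_of_odd_of_sq hdo ?_)
      rcases h.klein d hd0 hda hbd.symm with e3 | e3 | e3 | e3 <;> rw [e3]
      exacts [one_mul 1, h.asq, h.bsq, h.mul_sq h.aS h.bS h.asq h.bsq]
    · rw [he', inv_mul_eq_iff_eq_mul] at e
      have h1 : Odd (orderOf (d * a)) := e ▸ odd_orderOf_conj hdo b
      obtain ⟨j, hj⟩ := hdo
      have h2 : (d * a) ^ (orderOf d) = a := by
        rw [hda.mul_pow, pow_orderOf_eq_one, one_mul, hj, pow_succ, pow_mul, pow_two, h.asq,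
          one_pow, one_mul]
      have h3 : orderOf ((d * a) ^ orderOf d) = 2 := by
        rw [h2]; exact orderOf_eq_prime (by rw [pow_two, h.asq]) h.a1
      have h4 := orderOf_pow_dvd (G := G) (x := d * a) (orderOf d)
      rw [h3] at h4
      exact Nat.not_even_iff_odd.2 h1 (even_iff_two_dvd.2 h4)
    · rw [he', inv_mul_eq_iff_eq_mul, hib] at e
      exact h.b1 (mul_eq_right.1 (mul_right_cancel e))
    · rw [he', inv_mul_eq_iff_eq_mul, hib, ← mul_assoc d] at e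
      have e2 : b * d = d * a := mul_right_cancel e
      rw [hda.eq] at e2
      exact h.ab' (mul_right_cancel e2).symm
  set q' := m⁻¹ * q * m with hq'
  have hq't : Commute q' t := pullC q hqa
  have hq'o : Odd (orderOf q') := by
    have := odd_orderOf_conj hqo m⁻¹
    rwa [inv_inv] at this
  have hsq' : s * q' * s⁻¹ = q'⁻¹ := by
    have := inverted_conj hqb m⁻¹
    rwa [inv_inv] at this
  have hq'0 : q' ∈ E₀ := h.mem_e0 hq't hq'o (hSm b h.bS) hsq'
  have hx'q' : Commute x' q' := by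
    have := commute_conj ((he'K x hx).pow_left (2 ^ k)).symm m⁻¹
    rwa [inv_inv] at this
  have hq'r := h.ca x' hx'0 r hr q' hq'0 (fun e => hx'1 (eq_one_of_odd_of_sq hx'o e)) hrx' hx'q'
  rw [hsconj q' hq't] at hsq'
  have := eq_one_of_fix_invert hq'o hq'r hsq'
  exact hq1 (by
    calc q = m * (m⁻¹ * q * m) * m⁻¹ := by group
      _ = 1 := by rw [← hq', this]; group)

end CfsgLib.AbPSL44
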